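import Mathlib

/-!
# S3618, part A: counting the points of an orbit over the cosets of a subgroup
-/

set_option autoImplicit false

open Equiv Equiv.Perm MulAction Finset

namespace Cfsg.Agent.H334.PrA

universe u

variable {Ω : Type u} [Fintype Ω] [DecidableEq Ω]

section blocks

variable (H : Subgroup (Perm Ω)) (b : Ω) (W : Subgroup ↥H)

open Classical in
/-- the orbit of `b` -/
noncomputable def ob : Finset Ω := univ.filter fun c => ∃ m ∈ H, m b = c

open Classical in
/-- the block of a point -/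
noncomputable def pr (c : Ω) : ↥H ⧸ W :=
  if h : ∃ m ∈ H, m b = c then ((⟨h.choose, h.choose_spec.1⟩ : ↥H) : ↥H ⧸ W) else ((1 : ↥H) : ↥H ⧸ W)

variable {H b W}

theorem mem_ob {c : Ω} : c ∈ ob H b ↔ ∃ m ∈ H, m b = c := by
  unfold ob
  simp

theorem smul_mem_ob (m : ↥H) {c : Ω} (hc : c ∈ ob H b) : (m : Perm Ω) c ∈ ob H b := by
  obtain ⟨k, hk, rfl⟩ := mem_ob.1 hc
  exact mem_ob.2 ⟨(m : Perm Ω) * k, H.mul_mem m.2 hk, rfl⟩

variable (hW : ∀ m : ↥H, (m : Perm Ω) b = b → m ∈ W)

include hW in
theorem pr_apply (m : ↥H) : pr H b W ((m : Perm Ω) b) = (m : ↥H ⧸ W) := by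
  have h : ∃ k ∈ H, k b = (m : Perm Ω) b := ⟨m, m.2, rfl⟩
  unfold pr
  rw [dif_pos h, QuotientGroup.eq]
  apply hW
  have h1 := h.choose_spec.2
  rw [Subgroup.coe_mul, Subgroup.coe_inv, Perm.mul_apply, Perm.inv_eq_iff_eq]
  exact h1.symm

include hW in
theorem pr_smul (m : ↥H) {c : Ω} (hc : c ∈ ob H b) : pr H b W ((m : Perm Ω) c) = m • pr H b W c := by
  obtain ⟨k, hk, rfl⟩ := mem_ob.1 hc
  have h1 := pr_apply hW (m * ⟨k, hk⟩)
  have h2 := pr_apply hW ⟨k, hk⟩
  have h3 : ((m * ⟨k, hk⟩ : ↥H) : Perm Ω) b = (m : Perm Ω) (k b) := rfl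
  rw [← h3, h1]
  have h4 : pr H b W (k b) = ((⟨k, hk⟩ : ↥H) : ↥H ⧸ W) := h2
  rw [h4]
  rfl

/-- the number of points of the orbit in the block -/
noncomputable def wd (H : Subgroup (Perm Ω)) (b : Ω) (W : Subgroup ↥H) : ℕ := by
  classical
  exact ((ob H b).filter fun c => pr H b W c = ((1 : ↥H) : ↥H ⧸ W)).card

include hW in
open Classical in
theorem card_block (B : ↥H ⧸ W) : ((ob H b).filter fun c => pr H b W c = B).card = wd H b W := by
  obtain ⟨m, rfl⟩ := QuotientGroup.mk_surjective B
  unfold wd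
  symm
  apply Finset.card_bij (fun c _ => (m : Perm Ω) c)
  · intro c hc
    rw [mem_filter] at hc ⊢
    refine ⟨smul_mem_ob m hc.1, ?_⟩
    rw [pr_smul hW m hc.1, hc.2]
    show ((m * 1 : ↥H) : ↥H ⧸ W) = _
    rw [mul_one]
  · intro c _ d _ h
    exact (m : Perm Ω).injective h
  · intro d hd
    rw [mem_filter] at hd
    refine ⟨(m⁻¹ : ↥H).1 d, ?_, ?_⟩
    · rw [mem_filter]
      refine ⟨smul_mem_ob _ hd.1, ?_⟩
      rw [pr_smul hW m⁻¹ hd.1, hd.2]
      show ((m⁻¹ * m : ↥H) : ↥H ⧸ W) = _
      rw [inv_mul_cancel]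
    · show (m : Perm Ω) ((m : Perm Ω)⁻¹ d) = d
      exact Equiv.apply_symm_apply (m : Perm Ω) d

include hW in
theorem wd_pos : 1 ≤ wd H b W := by
  classical
  unfold wd
  rw [Nat.one_le_iff_ne_zero, Finset.card_ne_zero]
  refine ⟨b, ?_⟩
  rw [mem_filter]
  exact ⟨mem_ob.2 ⟨1, H.one_mem, rfl⟩, pr_apply hW 1⟩

include hW in
open Classical in
/-- the number of points over a set of blocks -/
theorem card_over [Fintype (↥H ⧸ W)] (s : Finset (↥H ⧸ W)) :
    ((ob H b).filter fun c => pr H b W c ∈ s).card = s.card * wd H b W := by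
  rw [Finset.card_eq_sum_card_fiberwise (f := pr H b W) (t := s)]
  · rw [Finset.sum_congr rfl (g := fun _ => wd H b W), Finset.sum_const, smul_eq_mul]
    intro B hB
    rw [← card_block hW B, Finset.filter_filter]
    congr 1
    apply Finset.filter_congr
    intro c _
    constructor
    · rintro ⟨-, h⟩; exact h
    · intro h; exact ⟨h ▸ hB, h⟩
  · intro c hc
    exact (mem_filter.1 hc).2

include hW in
theorem card_ob [Fintype (↥H ⧸ W)] : (ob H b).card = Fintype.card (↥H ⧸ W) * wd H b W := by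
  classical
  have h := card_over hW (Finset.univ : Finset (↥H ⧸ W))
  rw [← Finset.card_univ, ← h]
  congr 1
  rw [Finset.filter_true_of_mem]
  intro c _
  exact mem_univ _

include hW in
open Classical in
/-- the points over the moved blocks are moved -/
theorem le_moved [Fintype (↥H ⧸ W)] (x : ↥H) :
    (univ.filter fun B : ↥H ⧸ W => x • B ≠ B).card * wd H b W ≤ ((ob H b).filter fun c => (x : Perm Ω) c ≠ c).card := by
  rw [← card_over hW]
  apply Finset.card_le_card
  intro c hc
  rw [mem_filter] at hc ⊢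
  refine ⟨hc.1, fun h => ?_⟩
  have h1 := pr_smul hW x hc.1
  rw [h] at h1
  exact (mem_filter.1 hc.2).2 h1.symm

omit [Fintype Ω] [DecidableEq Ω] in
/-- a moved point has `p` images -/
theorem inj_pow {p : ℕ} (hp : p.Prime) {x : Perm Ω} (hx : x ^ p = 1) {c : Ω} (hc : x c ≠ c) :
    Set.InjOn (fun i : ℕ => (x ^ i) c) (Set.Iio p) := by
  have h1 : Function.minimalPeriod x c = p := by
    have h2 : Function.IsPeriodicPt x p c := by
      rw [Function.IsPeriodicPt, Function.IsFixedPt, ← Perm.coe_pow, hx]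
      rfl
    rcases (Nat.dvd_prime hp).1 h2.minimalPeriod_dvd with h | h
    · exact absurd (Function.minimalPeriod_eq_one_iff_isFixedPt.1 h) hc
    · exact h
  intro i hi j hj h
  have h3 := (Function.iterate_injOn_Iio_minimalPeriod (f := x) (x := c))
  rw [h1] at h3
  apply h3 hi hj
  show (⇑x)^[i] c = (⇑x)^[j] c
  rw [Equiv.Perm.iterate_eq_pow, Equiv.Perm.iterate_eq_pow]
  exact h

include hW in
open Classical in
/-- for an element of order `p`, small blocks: the moved points are the points over the moved blocks -/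
theorem moved_iff {p : ℕ} (hp : p.Prime) (hw : wd H b W < p) (x : ↥H) (hx : x ^ p = 1) {c : Ω} (hc : c ∈ ob H b) :
    (x : Perm Ω) c ≠ c ↔ x • pr H b W c ≠ pr H b W c := by
  constructor
  · intro h h1
    have hx' : (x : Perm Ω) ^ p = 1 := by
      rw [← Subgroup.coe_pow, hx]
      rfl
    have h2 := inj_pow hp hx' h
    have h3 : ∀ i : ℕ, ((x : Perm Ω) ^ i) c ∈ (ob H b).filter fun d => pr H b W d = pr H b W c := by
      intro i
      rw [mem_filter]
      have h4 := pr_smul hW (x ^ i) hc
      have h5 := smul_mem_ob (x ^ i) hc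
      rw [Subgroup.coe_pow] at h4 h5
      refine ⟨h5, h4.trans ?_⟩
      induction i with
      | zero => rw [pow_zero, one_smul]
      | succ i ih =>
        have h6 := ih (pr_smul hW (x ^ i) hc) (smul_mem_ob (x ^ i) hc)
        rw [pow_succ, mul_smul, h1]
        exact h6
    have h4 : p ≤ ((ob H b).filter fun d => pr H b W d = pr H b W c).card := by
      have h5 : ((Finset.range p).image fun i => ((x : Perm Ω) ^ i) c).card = p := by
        rw [Finset.card_image_of_injOn, Finset.card_range]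
        rw [Finset.coe_range]
        exact h2
      rw [← h5]
      apply Finset.card_le_card
      intro d hd
      obtain ⟨i, -, rfl⟩ := Finset.mem_image.1 hd
      exact h3 i
    rw [card_block hW] at h4
    omega
  · intro h h1
    apply h
    rw [← pr_smul hW x hc, h1]

include hW in
open Classical in
theorem moved_eq [Fintype (↥H ⧸ W)] {p : ℕ} (hp : p.Prime) (hw : wd H b W < p) (x : ↥H) (hx : x ^ p = 1) :
    ((ob H b).filter fun c => (x : Perm Ω) c ≠ c).card =
      (univ.filter fun B : ↥H ⧸ W => x • B ≠ B).card * wd H b W := by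
  rw [← card_over hW]
  congr 1
  apply Finset.filter_congr
  intro c hc
  rw [moved_iff hW hp hw x hx hc, mem_filter]
  simp

include hW in
open Classical in
theorem fixed_eq [Fintype (↥H ⧸ W)] {p : ℕ} (hp : p.Prime) (hw : wd H b W < p) (x : ↥H) (hx : x ^ p = 1) :
    ((ob H b).filter fun c => (x : Perm Ω) c = c).card =
      (univ.filter fun B : ↥H ⧸ W => x • B = B).card * wd H b W := by
  rw [← card_over hW]
  congr 1
  apply Finset.filter_congr
  intro c hc
  rw [← not_iff_not, ← ne_eq, moved_iff hW hp hw x hx hc, mem_filter]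
  simp

end blocks

end Cfsg.Agent.H334.PrA
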